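import Mathlib
import Cfsg.Agent.H672.Lin
set_option linter.all false

/-!
# Extension of characters from `N` to `N P` (`P` a Sylow subgroup) and to the inertia group
-/

set_option autoImplicit false
set_option linter.style.haveILetI false
set_option linter.unusedSectionVars false
open Cfsg

namespace Cfsg.Agent.H672

open Cfsg.Agent.Characters.Core Cfsg.Agent.Characters.Clifford
open scoped ComplexConjugate

universe u v w

section hom
variable {K : Type w} [Group K] [Finite K] {H : Type v} [Group H] [Finite H]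

theorem charDegree_comp_one (f : H →* K) (χ : K → ℂ) : charDegree (χ ∘ f) = charDegree χ := by
  rw [Blocks.Basic.charDegree_def, Blocks.Basic.charDegree_def]
  simp

/-- Degree divisibility along an injective homomorphism with normal range. -/
theorem charDegree_dvd_of_over_hom (f : H →* K) (hf : Function.Injective f)
    (hn : f.range.Normal) {χ : K → ℂ} (hχ : IsIrrCharacter K χ) {θ : H → ℂ}
    (hθ : IsIrrCharacter H θ) (h : Over f χ θ) :
    charDegree θ ∣ charDegree χ ∧ charDegree χ / charDegree θ ∣ f.range.index := by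
  let e : H ≃* f.range := MonoidHom.ofInjective hf
  have hθ' : IsIrrCharacter f.range (θ ∘ e.symm) :=
    isIrr_comp (e.symm : f.range →* H) e.symm.surjective hθ
  have h' : Over f.range.subtype χ (θ ∘ e.symm) := by
    rw [← over_comp_equiv f.range.subtype e]
    have e1 : f.range.subtype.comp e.toMonoidHom = f := by ext; rfl
    have e2 : (θ ∘ e.symm) ∘ e = θ := by funext x; simp
    rw [e1, e2]; exact h
  have h1 := charDegree_dvd_of_over f.range hχ hθ' h'
  have h2 : charDegree (θ ∘ e.symm) = charDegree θ := by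
    rw [Blocks.Basic.charDegree_def, Blocks.Basic.charDegree_def]
    simp
  rwa [h2] at h1

/-- Over a `p`-quotient a character of degree prime to `p` restricts irreducibly. -/
theorem comp_eq_of_pindex (f : H →* K) (hf : Function.Injective f)
    (hn : f.range.Normal) {p k : ℕ} (hp : p.Prime) (hidx : f.range.index ∣ p ^ k)
    {ξ : K → ℂ} (hξ : IsIrrCharacter K ξ) (hd : ¬ p ∣ charDegree ξ) {θ : H → ℂ}
    (hθ : IsIrrCharacter H θ) (h : Over f ξ θ) : ξ ∘ f = θ := by
  obtain ⟨h1, h2⟩ := charDegree_dvd_of_over_hom f hf hn hξ hθ h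
  have h3 : charDegree ξ / charDegree θ = 1 := by
    obtain ⟨j, -, hj⟩ := (Nat.dvd_prime_pow hp).1 (h2.trans hidx)
    rcases Nat.eq_zero_or_pos j with h0 | h0
    · rw [hj, h0, pow_zero]
    · exfalso
      apply hd
      have h4 : p ∣ charDegree ξ / charDegree θ := by
        rw [hj]; exact dvd_pow_self p h0.ne'
      exact h4.trans (Nat.div_dvd_of_dvd h1)
  have h4 : charDegree θ = charDegree ξ := by
    have := Nat.div_mul_cancel h1
    rw [h3, one_mul] at this
    exact this
  exact eq_of_over_of_charDegree_eq hξ hθ h h4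

/-- Clifford's theorem for an invariant character, along an injective homomorphism with normal
range. -/
theorem comp_eq_smul_of_invariant_hom (f : H →* K) (hf : Function.Injective f)
    (hn : f.range.Normal) {ψ : K → ℂ} (hψ : IsIrrCharacter K ψ) {θ : H → ℂ}
    (hθ : IsIrrCharacter H θ)
    (hinv : ∀ (k : K) (h h' : H), f h' = k * f h * k⁻¹ → θ h' = θ h) [Fintype H]
    (h : classInner (ψ ∘ f) θ ≠ 0) : ψ ∘ f = classInner (ψ ∘ f) θ • θ := by
  classical
  letI := Fintype.ofFinite K
  letI := Fintype.ofFinite f.range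
  let e : H ≃* f.range := MonoidHom.ofInjective hf
  have he : ∀ x : H, ((e x : f.range) : K) = f x := fun x => rfl
  have hθ' : IsIrrCharacter f.range (θ ∘ e.symm) :=
    isIrr_comp (e.symm : f.range →* H) e.symm.surjective hθ
  have hcl : classInner (fun n : f.range => ψ n) (θ ∘ e.symm) = classInner (ψ ∘ f) θ := by
    rw [← classInner_comp_mulEquiv e (fun n : f.range => ψ n) (θ ∘ e.symm)]
    congr 1
    funext x; simp
  have key := CharDeep.CliffordCorr.restrict_eq_smul_of_invariant f.range hψ hθ' (fun k => by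
    funext x
    simp only [Function.comp]
    refine hinv k _ _ ?_
    have h1 := he (e.symm (MulAut.conjNormal k x))
    have h2 := he (e.symm x)
    rw [MulEquiv.apply_symm_apply] at h1 h2
    rw [← h1, ← h2, MulAut.conjNormal_apply]) (by rw [hcl]; exact h)
  rw [hcl] at key
  funext x
  have h1 := congrFun key (e x)
  simp only [Pi.smul_apply, smul_eq_mul, Function.comp, MulEquiv.symm_apply_apply, he] at h1
  simp only [Pi.smul_apply, smul_eq_mul, Function.comp]
  exact h1

/-- If `θ` and `l θ` extend to `K` and `l` is invariant in `K`, then `l` extends to `K`. -/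
theorem lin_ext_of_two (f : H →* K) (hf : Function.Injective f)
    (hn : f.range.Normal) {ξ₁ ξ₂ : K → ℂ} (h1 : IsIrrCharacter K ξ₁) (h2 : IsIrrCharacter K ξ₂)
    {θ : H → ℂ} (hθ : IsIrrCharacter H θ) (l : H →* ℂˣ)
    (hinv : ∀ (k : K) (h h' : H), f h' = k * f h * k⁻¹ → l h' = l h)
    (e1 : ξ₁ ∘ f = θ) (e2 : ξ₂ ∘ f = fun h => (l h : ℂ) * θ h) :
    ∃ m : K →* ℂˣ, ∀ h, m (f h) = l h := by
  classical
  letI := Fintype.ofFinite K
  letI := Fintype.ofFinite H
  haveI := finite_irr (G := K)
  letI := Fintype.ofFinite (IrrCharacter K)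
  have hα : IsCharacter K ((fun k => conj (ξ₁ k)) * ξ₂) :=
    isCharacter_mul (isCharacter_conj (isIrr_isCharacter h1)) (isIrr_isCharacter h2)
  obtain ⟨c, hc, hc'⟩ := CharDeep.CliffordCorr.exists_nat_coeffs hα
  choose a ha using fun η : IrrCharacter K =>
    classInner_isNat (isCharacter_comp f (isIrr_isCharacter η.2)) (isCharacter_lf l)
  have hone : classInner (((fun k => conj (ξ₁ k)) * ξ₂) ∘ f) (lf l) = 1 := by
    rw [← classInner_irr_self hθ, classInner_def, classInner_def]
    congr 1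
    refine Finset.sum_congr rfl fun x _ => ?_
    have h3 := congrFun e1 x
    have h4 := congrFun e2 x
    simp only [Function.comp] at h3 h4
    simp only [Function.comp, Pi.mul_apply, h3, h4, lf]
    calc conj (θ x) * ((l x : ℂ) * θ x) * conj (l x : ℂ)
        = ((l x : ℂ) * conj (l x : ℂ)) * (θ x * conj (θ x)) := by ring
      _ = θ x * conj (θ x) := by rw [lf_mul_conj, one_mul]
  have hsum : classInner (((fun k => conj (ξ₁ k)) * ξ₂) ∘ f) (lf l) =
      ((∑ η : IrrCharacter K, c η * a η : ℕ) : ℂ) := by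
    have e3 : ((fun k => conj (ξ₁ k)) * ξ₂) ∘ f =
        ∑ η : IrrCharacter K, (c η : ℂ) • ((η : K → ℂ) ∘ f) := by
      funext x
      have := congrFun hc (f x)
      simp only [Finset.sum_apply, Pi.smul_apply] at this
      simp only [Function.comp, Finset.sum_apply, Pi.smul_apply]
      exact this
    rw [e3, classInner_sum_left]
    push_cast
    refine Finset.sum_congr rfl fun η _ => ?_
    rw [classInner_smul_left, ha]
  rw [hone] at hsum
  have hnat : ∑ η : IrrCharacter K, c η * a η = 1 := by exact_mod_cast hsum.symm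
  obtain ⟨η, -, hη⟩ := Finset.exists_ne_zero_of_sum_ne_zero (by rw [hnat]; exact one_ne_zero :
    ∑ η : IrrCharacter K, c η * a η ≠ 0)
  have hle : c η * a η ≤ 1 := by
    rw [← hnat]
    exact Finset.single_le_sum (f := fun η : IrrCharacter K => c η * a η)
      (fun _ _ => Nat.zero_le _) (Finset.mem_univ η)
  have ha1 : a η = 1 := by
    have h3 : c η * a η = 1 := by omega
    exact Nat.dvd_one.1 (Dvd.intro_left (c η) h3)
  have hov : classInner ((η : K → ℂ) ∘ f) (lf l) = 1 := by rw [ha, ha1, Nat.cast_one]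
  have key := comp_eq_smul_of_invariant_hom f hf hn η.2 (isIrr_lf l)
    (fun k h h' hh => by rw [lf_apply, lf_apply, hinv k h h' hh]) (by rw [hov]; exact one_ne_zero)
  rw [hov, one_smul] at key
  have hdeg : charDegree (η : K → ℂ) = 1 := by
    rw [← charDegree_comp_one f, key, charDegree_lf]
  obtain ⟨m, hm⟩ := exists_hom_of_degree_one η.2 hdeg
  refine ⟨m, fun h => ?_⟩
  have h3 := congrFun key h
  simp only [Function.comp, hm, lf] at h3
  exact Units.ext h3

end hom

section normal
variable {G : Type u} [Group G] [Finite G] (N : Subgroup G) [hN : N.Normal]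

/-- the inclusion of `N` in `N ⊔ P` -/
def inclK (Q : Subgroup G) : N →* (N ⊔ Q : Subgroup G) := Subgroup.inclusion le_sup_left

theorem inclK_injective (Q : Subgroup G) : Function.Injective (inclK N Q) :=
  Subgroup.inclusion_injective _

theorem inclK_range (Q : Subgroup G) : (inclK N Q).range = N.subgroupOf (N ⊔ Q) :=
  Subgroup.inclusion_range _

theorem inclK_range_normal (Q : Subgroup G) : (inclK N Q).range.Normal := by
  rw [inclK_range]
  infer_instance

theorem subtype_comp_inclK (Q : Subgroup G) :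
    (N ⊔ Q : Subgroup G).subtype.comp (inclK N Q) = N.subtype := by
  ext; rfl

theorem inclK_range_index {p : ℕ} [Fact p.Prime] (P : Sylow p G) :
    ∃ k : ℕ, (inclK N (P : Subgroup G)).range.index ∣ p ^ k := by
  obtain ⟨k, hk⟩ := IsPGroup.iff_card.1 P.isPGroup'
  refine ⟨k, ?_⟩
  rw [inclK_range]
  have h1 : (N.subgroupOf (N ⊔ (P : Subgroup G))).index = N.relIndex (N ⊔ (P : Subgroup G)) := rfl
  rw [h1, sup_comm, Subgroup.relIndex_sup_right, ← hk]
  exact Subgroup.relIndex_dvd_card _ _

/-- An irreducible character of degree prime to `p` lies over a character of `N` which extends to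
`N P`. -/
theorem exists_extendible {p : ℕ} [hp : Fact p.Prime] (P : Sylow p G) {χ : G → ℂ}
    (hχ : IsIrrCharacter G χ) (hd : ¬ p ∣ charDegree χ) :
    ∃ θ : N → ℂ, IsIrrCharacter N θ ∧ Over N.subtype χ θ ∧
      ∃ ξ : (N ⊔ (P : Subgroup G) : Subgroup G) → ℂ, IsIrrCharacter _ ξ ∧
        ξ ∘ inclK N (P : Subgroup G) = θ := by
  obtain ⟨ξ, hξ, h1, h2⟩ := exists_under_not_dvd (N ⊔ (P : Subgroup G) : Subgroup G).subtype hχ hd
  obtain ⟨θ, hθ, h3⟩ := exists_under (f := inclK N (P : Subgroup G)) hξ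
  obtain ⟨k, hk⟩ := inclK_range_index N P
  have h4 := comp_eq_of_pindex _ (inclK_injective N _) (inclK_range_normal N _) hp.out hk hξ h2 hθ h3
  refine ⟨θ, hθ, ?_, ξ, hξ, h4⟩
  rw [← subtype_comp_inclK N (P : Subgroup G)]
  exact (over_comp_iff _ _ (isIrr_isCharacter hχ) hθ).2 ⟨ξ, hξ, h1, h3⟩

theorem charDegree_indFun [Fintype G] (T : Subgroup G) {η : T → ℂ} (hη : IsIrrCharacter T η)
    {χ : G → ℂ} (h : indFun T η = χ) : charDegree χ = T.index * charDegree η := by
  apply charDegree_of_eq
  rw [← h, OddOrderCharacters.InertiaAbelian.indFun_one, ← coe_charDegree hη]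
  push_cast; rfl

/-- If `ψ` has degree prime to `p` and lies over `μ`, which is `P`-invariant, then `μ` extends
to `N P`. -/
theorem extends_of_invariant {p : ℕ} [hp : Fact p.Prime] (P : Sylow p G) {μ : N → ℂ}
    (hμ : IsIrrCharacter N μ) (hinv : (P : Subgroup G) ≤ inertia N μ) {ψ : G → ℂ}
    (hψ : IsIrrCharacter G ψ) (ho : Over N.subtype ψ μ) (hd : ¬ p ∣ charDegree ψ) :
    ∃ ξ : (N ⊔ (P : Subgroup G) : Subgroup G) → ℂ, IsIrrCharacter _ ξ ∧
        ξ ∘ inclK N (P : Subgroup G) = μ := by
  classical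
  letI := Fintype.ofFinite G
  letI := Fintype.ofFinite N
  letI := Fintype.ofFinite (inertia N μ)
  have hNT : N ≤ inertia N μ := le_inertia (isIrr_isClassFunction hμ)
  obtain ⟨η, hη, hηi, hηc⟩ := S0854.result N μ hμ (inertia N μ) (fun g => mem_inertia_iff) hNT ψ hψ
    ((over_subtype_iff N ψ μ).1 ho)
  have hdη : ¬ p ∣ charDegree η := by
    intro h
    apply hd
    rw [charDegree_indFun (inertia N μ) hη hηi]
    exact h.mul_left _
  have hKT : N ⊔ (P : Subgroup G) ≤ inertia N μ := sup_le hNT hinv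
  let g : (N ⊔ (P : Subgroup G) : Subgroup G) →* inertia N μ := Subgroup.inclusion hKT
  obtain ⟨ξ, hξ, h1, h2⟩ := exists_under_not_dvd g hη hdη
  obtain ⟨θ, hθ, h3⟩ := exists_under (f := inclK N (P : Subgroup G)) hξ
  obtain ⟨k, hk⟩ := inclK_range_index N P
  have h4 := comp_eq_of_pindex _ (inclK_injective N _) (inclK_range_normal N _) hp.out hk hξ h2 hθ h3
  refine ⟨ξ, hξ, ?_⟩
  rw [h4]
  have h5 : Over (g.comp (inclK N (P : Subgroup G))) η θ :=
    (over_comp_iff _ _ (isIrr_isCharacter hη) hθ).2 ⟨ξ, hξ, h1, h3⟩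
  rw [over_iff] at h5
  by_contra hne
  apply h5
  have h6 : η ∘ (g.comp (inclK N (P : Subgroup G))) =
      (classInner (fun n : N => η ⟨(n : G), hNT n.2⟩) μ) • μ := by
    funext n
    have := CharDeep.CliffordCorr.restrict_eq_mul_of_invariant N (inertia N μ) hNT hη hμ
      (fun x hx => mem_inertia_iff.1 hx) (by
        rw [hηc]; exact (over_subtype_iff N ψ μ).1 ho) n
    simp only [Pi.smul_apply, smul_eq_mul]
    exact this
  rw [h6, classInner_smul_left, classInner_irr_ne hμ hθ (Ne.symm hne), mul_zero]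

/-- A linear character of `p`-power order, invariant in `T ≥ K ≥ N P` and extendible to `K`,
extends to `T`. -/
theorem lin_extends_to {p k : ℕ} [hp : Fact p.Prime] (P : Sylow p G) (K T : Subgroup G)
    (hNK : N ≤ K) (hPK : (P : Subgroup G) ≤ K)
    (hKT : K ≤ T) (l : N →* ℂˣ) (hl : ∀ n, l n ^ p ^ k = 1)
    (hT : T ≤ inertia N (lf l)) (ν : K →* ℂˣ)
    (hν : ∀ n : N, ν ⟨n, hNK n.2⟩ = l n) :
    ∃ m : T →* ℂˣ, ∀ n : N, m ⟨n, (hNK.trans hKT) n.2⟩ = l n := by
  classical
  have hNT : N ≤ T := hNK.trans hKT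
  let ϕ : K.subgroupOf T →* ℂˣ := ν.comp (Subgroup.subgroupOfEquivOfLe hKT).toMonoidHom
  have hle : N.subgroupOf T ≤ K.subgroupOf T := fun x hx => hNK hx
  have hϕ : ∀ (x : T) (hx : x ∈ N.subgroupOf T), ϕ ⟨x, hle hx⟩ = l ⟨x, hx⟩ := by
    intro x hx
    exact hν ⟨x, hx⟩
  have htr : ∀ (x : T) (hx : x ∈ N.subgroupOf T),
      MonoidHom.transfer ϕ x = l ⟨x, hx⟩ ^ (K.subgroupOf T).index := by
    intro x hx
    rw [CharactersDeep.LinearExt.transfer_apply_of_invariant (N.subgroupOf T) (K.subgroupOf T) hle ϕ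
      (fun g n hn hgn => ?_) x hx, hϕ]
    rw [hϕ _ hn, hϕ _ hgn]
    have := (mem_inertia_lf N).1 (hT g.2) ⟨n, hn⟩
    rw [← this]
    congr 1
  -- the index is prime to p
  have hcop : Nat.Coprime (K.subgroupOf T).index (p ^ k) := by
    refine Nat.Coprime.pow_right _ ((Nat.Prime.coprime_iff_not_dvd hp.out).2 ?_).symm
    intro hdvd
    have h1 : (K.subgroupOf T).index = K.relIndex T := rfl
    have h2 : K.relIndex T ∣ (P : Subgroup G).index :=
      (Subgroup.relIndex_dvd_index_of_le hKT).trans (Subgroup.index_dvd_of_le hPK)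
    exact P.not_dvd_index ((h1 ▸ hdvd).trans h2)
  obtain ⟨j, hj⟩ : ∃ j : ℕ, (K.subgroupOf T).index * j ≡ 1 [MOD p ^ k] := by
    by_cases hk : 1 < p ^ k
    · obtain ⟨j, hj⟩ := Nat.exists_mul_mod_eq_one_of_coprime hcop hk
      exact ⟨j, by rw [Nat.ModEq, hj.2, Nat.mod_eq_of_lt hk]⟩
    · have : p ^ k = 1 := le_antisymm (not_lt.1 hk) (Nat.one_le_pow _ _ hp.out.pos)
      exact ⟨0, by rw [this]; exact Nat.modEq_one⟩
  refine ⟨(MonoidHom.transfer ϕ : T →* ℂˣ) ^ j, fun n => ?_⟩
  have h1 := htr ⟨n, hNT n.2⟩ n.2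
  rw [MonoidHom.pow_apply, h1, ← pow_mul]
  have h2 : l n ^ ((K.subgroupOf T).index * j) = l n ^ 1 :=
    (pow_eq_pow_iff_modEq.2 (hj.of_dvd (orderOf_dvd_of_pow_eq_one (hl n))))
  rw [pow_one] at h2
  exact h2

/-- Character of `G` of degree the index of the inertia group, for an extendible linear character. -/
theorem exists_irr_index (l : N →* ℂˣ) (T : Subgroup G) (hT : T = inertia N (lf l)) (hNT : N ≤ T)
    (m : T →* ℂˣ) (hm : ∀ n : N, m ⟨n, hNT n.2⟩ = l n) :
    ∃ χ : G → ℂ, IsIrrCharacter G χ ∧ Over N.subtype χ (lf l) ∧ charDegree χ = T.index := by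
  classical
  letI := Fintype.ofFinite G
  letI := Fintype.ofFinite N
  letI := Fintype.ofFinite T
  haveI := finite_irr (G := G)
  letI := Fintype.ofFinite (IrrCharacter G)
  -- a constituent of the induced character
  have h1 : IsCharacter G (indFun T (lf m)) :=
    CharDeep.CliffordCorr.isCharacter_indFun T (isCharacter_lf m)
  obtain ⟨c, hc, hc'⟩ := CharDeep.CliffordCorr.exists_nat_coeffs h1
  have hone : indFun T (lf m) 1 = T.index := by
    rw [OddOrderCharacters.InertiaAbelian.indFun_one]; simp [lf]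
  have hne : indFun T (lf m) ≠ 0 := by
    intro h
    rw [h, Pi.zero_apply] at hone
    exact (Nat.cast_ne_zero.2 (Subgroup.index_ne_zero_of_finite (H := T))) hone.symm
  obtain ⟨χ, hχ, h⟩ := exists_constituent h1 hne
  have hcχ : c ⟨χ, hχ⟩ ≠ 0 := by
    intro h0
    apply h
    rw [hc' ⟨χ, hχ⟩, h0, Nat.cast_zero]
  have hle : charDegree χ ≤ T.index := by
    have h2 := congrFun hc 1
    rw [hone] at h2
    simp only [Finset.sum_apply, Pi.smul_apply, smul_eq_mul] at h2
    have h3 : (T.index : ℂ) = ((∑ η : IrrCharacter G, c η * charDegree (η : G → ℂ) : ℕ) : ℂ) := by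
      rw [h2]
      push_cast
      exact Finset.sum_congr rfl fun η _ => by rw [coe_charDegree η.2]
    have h4 : T.index = ∑ η : IrrCharacter G, c η * charDegree (η : G → ℂ) := by exact_mod_cast h3
    rw [h4]
    calc charDegree χ ≤ c ⟨χ, hχ⟩ * charDegree χ :=
          Nat.le_mul_of_pos_left _ (Nat.pos_of_ne_zero hcχ)
      _ ≤ _ := Finset.single_le_sum (f := fun η : IrrCharacter G => c η * charDegree (η : G → ℂ))
        (fun _ _ => Nat.zero_le _) (Finset.mem_univ (⟨χ, hχ⟩ : IrrCharacter G))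
  have h3 := CharactersDeep.NormalInd.classInner_indFun T (lf m) χ (isIrr_isClassFunction hχ)
  have hoT : Over T.subtype χ (lf m) := by
    rw [over_iff]
    intro h4
    apply h
    rw [h3, ← classInner_conj_symm]
    have : classInner (fun h : T => χ h) (lf m) = 0 := h4
    rw [this, map_zero]
  have hoN : Over N.subtype χ (lf l) := by
    have e : N.subtype = T.subtype.comp (Subgroup.inclusion hNT) := by ext; rfl
    rw [e]
    refine (over_comp_iff _ _ (isIrr_isCharacter hχ) (isIrr_lf l)).2 ⟨lf m, isIrr_lf m, hoT, ?_⟩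
    rw [over_iff]
    have e2 : lf m ∘ (Subgroup.inclusion hNT) = lf l := by
      funext n
      exact congrArg Units.val (hm n)
    rw [e2, classInner_irr_self (isIrr_lf l)]
    exact one_ne_zero
  refine ⟨χ, hχ, hoN, le_antisymm hle (Nat.le_of_dvd (charDegree_pos hχ) ?_)⟩
  have := index_mul_charDegree_dvd N hχ (isIrr_lf l) hoN
  rwa [charDegree_lf, mul_one, ← hT] at this

end normal

end Cfsg.Agent.H672
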