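import Mathlib
import Cfsg.Agent.H672.Ext
import Cfsg.Agent.S0543
set_option linter.all false

-- part: H672/Graph
section
/-!
# The common-divisor graph on the relative degree set: two vertices in different components

`N` normal in the finite group `G`, `N ≤ G'`.
-/

set_option autoImplicit false
set_option linter.style.haveILetI false
set_option linter.unusedSectionVars false
open Cfsg

namespace Cfsg.Agent.H672

open Cfsg.Agent.Characters.Core Cfsg.Agent.Characters.Clifford
open scoped ComplexConjugate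

universe u v w

variable {G : Type u} [Group G]

section conn
variable (N : Subgroup G)

/-- `a` and `b` are connected in the common divisor graph on the relative degree set. -/
def Conn (a b : ℕ) : Prop :=
  ∃ (ha : a ∈ relCharDegrees N) (hb : b ∈ relCharDegrees N),
    (commonDivisorGraph.induce (relCharDegrees N)).Reachable ⟨a, ha⟩ ⟨b, hb⟩

variable {N}

theorem Conn.symm {a b : ℕ} (h : Conn N a b) : Conn N b a := by
  obtain ⟨ha, hb, h⟩ := h
  exact ⟨hb, ha, h.symm⟩

theorem Conn.trans {a b c : ℕ} (h : Conn N a b) (h' : Conn N b c) : Conn N a c := by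
  obtain ⟨ha, hb, h⟩ := h
  obtain ⟨hb', hc, h'⟩ := h'
  exact ⟨ha, hc, h.trans h'⟩

theorem relCharDegrees_pos {a : ℕ} (ha : a ∈ relCharDegrees N) : 0 < a := by
  obtain ⟨χ, -, rfl⟩ := ha
  exact charDegree_pos χ.2

theorem Conn.of_dvd {a b r : ℕ} (ha : a ∈ relCharDegrees N) (hb : b ∈ relCharDegrees N)
    (hr : 1 < r) (h1 : r ∣ a) (h2 : r ∣ b) : Conn N a b := by
  refine ⟨ha, hb, ?_⟩
  by_cases hab : a = b
  · subst hab
    exact SimpleGraph.Reachable.refl _
  · refine SimpleGraph.Adj.reachable ?_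
    rw [SimpleGraph.comap_adj]
    refine ⟨hab, lt_of_lt_of_le hr (Nat.le_of_dvd ?_ (Nat.dvd_gcd h1 h2))⟩
    exact Nat.gcd_pos_of_pos_left _ (relCharDegrees_pos ha)

theorem Conn.refl {a : ℕ} (ha : a ∈ relCharDegrees N) : Conn N a a :=
  ⟨ha, ha, SimpleGraph.Reachable.refl _⟩

theorem Conn.of_not_coprime {a b : ℕ} (ha : a ∈ relCharDegrees N) (hb : b ∈ relCharDegrees N)
    (h : ¬ Nat.Coprime a b) : Conn N a b := by
  obtain ⟨r, hr, h1, h2⟩ := Nat.Prime.not_coprime_iff_dvd.1 h
  exact Conn.of_dvd ha hb hr.one_lt h1 h2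

end conn

section normal
variable [Finite G] (N : Subgroup G) [hN : N.Normal]

theorem card_orbit [Fintype G] [DecidableEq (N → ℂ)] (θ : N → ℂ) :
    (Finset.univ.image (fun x : G => θ ∘ (MulAut.conjNormal x : MulAut N))).card =
      (inertia N θ).index := by
  classical
  have hcard := CharactersDeep.CliffordSum.card_conj_mul_card N θ (inertia N θ)
    (fun g => mem_inertia)
  have h2 := (inertia N θ).index_mul_card
  have hpos : 0 < Nat.card (inertia N θ) := Nat.card_pos
  exact Nat.eq_of_mul_eq_mul_right hpos (hcard.trans h2.symm)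

theorem index_inf_of_coprime (A B : Subgroup G) (h : Nat.Coprime A.index B.index) :
    (A ⊓ B).index = A.index * B.index := by
  refine le_antisymm (Subgroup.index_inf_le) (Nat.le_of_dvd (Nat.pos_of_ne_zero
    Subgroup.index_ne_zero_of_finite) ?_)
  exact h.mul_dvd_of_dvd_of_dvd (Subgroup.index_dvd_of_le inf_le_left)
    (Subgroup.index_dvd_of_le inf_le_right)

/-- The key counting lemma. -/
theorem inertia_eq_top {p k : ℕ} [hp : Fact p.Prime] {θ : N → ℂ} (hθ : IsIrrCharacter N θ)
    (hd : ¬ p ∣ charDegree θ) (hS : ¬ p ∣ (inertia N θ).index) (l : N →* ℂˣ)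
    (hl : ∀ n, l n ^ p ^ k = 1)
    (h1 : Nat.Coprime (inertia N θ).index (inertia N (lf l)).index)
    (h2 : Nat.Coprime (inertia N (fun n => (l n : ℂ) * θ n)).index (inertia N (lf l)).index) :
    inertia N (lf l) = ⊤ := by
  classical
  letI := Fintype.ofFinite G
  by_contra hne
  obtain ⟨g, hg⟩ : ∃ g : G, g ∉ inertia N (lf l) := by
    by_contra hcon
    push Not at hcon
    exact hne (eq_top_iff.2 fun g _ => hcon g)
  -- orbits
  let X : Finset (N → ℂ) := Finset.univ.image (fun x : G => θ ∘ (MulAut.conjNormal x : MulAut N))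
  let Y : Finset (N → ℂ) := Finset.univ.image
    (fun x : G => (fun n => (l n : ℂ) * θ n) ∘ (MulAut.conjNormal x : MulAut N))
  have hX : X.card = (inertia N θ).index := card_orbit N θ
  have hY : Y.card = (inertia N (fun n => (l n : ℂ) * θ n)).index := card_orbit N _
  have hinf : inertia N θ ⊓ inertia N (lf l) =
      inertia N (fun n => (l n : ℂ) * θ n) ⊓ inertia N (lf l) := by
    ext x
    simp only [Subgroup.mem_inf]
    constructor
    · rintro ⟨h3, h4⟩
      exact ⟨(mem_inertia_mul N h4).2 h3, h4⟩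
    · rintro ⟨h3, h4⟩
      exact ⟨(mem_inertia_mul N h4).1 h3, h4⟩
  have hcard : X.card = Y.card := by
    rw [hX, hY]
    have h3 := index_inf_of_coprime _ _ h1
    have h4 := index_inf_of_coprime _ _ h2
    rw [hinf, h4] at h3
    exact (Nat.eq_of_mul_eq_mul_right (Nat.pos_of_ne_zero Subgroup.index_ne_zero_of_finite) h3).symm
  -- multiplication by a conjugate of `l` maps `X` to `Y`
  have hmap : ∀ x : G, ∀ a ∈ X, (fun n => (l (MulAut.conjNormal x n) : ℂ) * a n) ∈ Y := by
    intro x a ha
    obtain ⟨y, -, rfl⟩ := Finset.mem_image.1 ha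
    obtain ⟨s, hs, t, ht, hst⟩ := S0543.exists_mul_eq_of_coprime_index _ _ h1 (y * x⁻¹)
    -- h = s⁻¹ y = t x
    refine Finset.mem_image.2 ⟨s⁻¹ * y, Finset.mem_univ _, ?_⟩
    have e1 : s⁻¹ * y = t * x := by
      have : y = s * t * x := by rw [← hst]; group
      rw [this]; group
    have e2 : θ ∘ (MulAut.conjNormal (s⁻¹ * y) : MulAut N) = θ ∘ (MulAut.conjNormal y : MulAut N) := by
      rw [CharactersDeep.CliffordSum.comp_conjNormal_mul, mem_inertia.1 ((inertia N θ).inv_mem hs)]
    have e3 : lf l ∘ (MulAut.conjNormal (s⁻¹ * y) : MulAut N) =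
        lf l ∘ (MulAut.conjNormal x : MulAut N) := by
      rw [e1, CharactersDeep.CliffordSum.comp_conjNormal_mul, mem_inertia.1 ht]
    funext n
    have e2' := congrFun e2 n
    have e3' := congrFun e3 n
    simp only [Function.comp, lf] at e2' e3' ⊢
    rw [e2', e3']
  have hinj : ∀ x : G, Function.Injective
      (fun (a : N → ℂ) (n : N) => (l (MulAut.conjNormal x n) : ℂ) * a n) := by
    intro x a b hab
    funext n
    exact mul_left_cancel₀ (l (MulAut.conjNormal x n)).ne_zero (congrFun hab n)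
  have himg : ∀ x : G, X.image
      (fun (a : N → ℂ) (n : N) => (l (MulAut.conjNormal x n) : ℂ) * a n) = Y := by
    intro x
    refine Finset.eq_of_subset_of_card_le ?_ ?_
    · intro b hb
      obtain ⟨a, ha, rfl⟩ := Finset.mem_image.1 hb
      exact hmap x a ha
    · rw [Finset.card_image_of_injective _ (hinj x), hcard]
  -- the quotient `β = l^g / l`
  let β : N →* ℂˣ := (l.comp (MulAut.conjNormal g : MulAut N).toMonoidHom) / l
  have hβ : ∀ n, β n = l (MulAut.conjNormal g n) / l n := fun n => rfl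
  have hβ1 : β ≠ 1 := by
    intro h
    apply hg
    rw [mem_inertia_lf]
    intro n
    have := DFunLike.congr_fun h n
    rw [hβ, MonoidHom.one_apply, div_eq_one] at this
    exact this
  have hβp : ∀ n, β n ^ p ^ k = 1 := by
    intro n
    rw [hβ, div_pow, hl, hl, div_one]
  have hXβ : ∀ a ∈ X, (fun n => (β n : ℂ) * a n) ∈ X := by
    intro a ha
    have h3 : (fun n => (l (MulAut.conjNormal g n) : ℂ) * a n) ∈ X.image
        (fun (a : N → ℂ) (n : N) => (l (MulAut.conjNormal (1 : G) n) : ℂ) * a n) := by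
      rw [himg 1, ← himg g]
      exact Finset.mem_image_of_mem _ ha
    obtain ⟨b, hb, hab⟩ := Finset.mem_image.1 h3
    have : (fun n => (β n : ℂ) * a n) = b := by
      funext n
      have h4 := congrFun hab n
      simp only [map_one, MulAut.one_apply] at h4
      have h5 : (l n : ℂ) ≠ 0 := (l n).ne_zero
      rw [hβ, Units.val_div_eq_div_val]
      field_simp
      rw [← h4]
    rw [this]
    exact hb
  -- the action of `β` on `X`
  have hdX : ∀ a ∈ X, IsIrrCharacter N a ∧ charDegree a = charDegree θ := by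
    intro a ha
    obtain ⟨y, -, rfl⟩ := Finset.mem_image.1 ha
    refine ⟨isIrr_conjNormal hθ y, ?_⟩
    rw [Blocks.Basic.charDegree_def, Blocks.Basic.charDegree_def]
    simp
  let f : Function.End X := fun a => ⟨fun n => (β n : ℂ) * (a : N → ℂ) n, hXβ a a.2⟩
  have hf : ∀ j : ℕ, ∀ a : X, ((f ^ j) a : N → ℂ) = fun n => ((β n : ℂ)) ^ j * (a : N → ℂ) n := by
    intro j
    induction j with
    | zero =>
      intro a
      change (a : N → ℂ) = _
      funext n
      rw [pow_zero, one_mul]
    | succ j ih =>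
      intro a
      rw [pow_succ]
      change ((f ^ j) (f a) : N → ℂ) = _
      rw [ih]
      funext n
      change (β n : ℂ) ^ j * ((β n : ℂ) * (a : N → ℂ) n) = _
      rw [pow_succ]
      ring
  have hfp : f ^ p ^ k = 1 := by
    funext a
    apply Subtype.ext
    rw [hf]
    funext n
    have := hβp n
    have h3 : (β n : ℂ) ^ p ^ k = 1 := by
      rw [← Units.val_pow_eq_pow_val, this, Units.val_one]
    rw [h3, one_mul]
    rfl
  have hfix : Fintype.card (Function.fixedPoints f) = 0 := by
    rw [Fintype.card_eq_zero_iff]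
    constructor
    rintro ⟨a, ha⟩
    have h3 : f a = a := ha
    have h4 := congrArg Subtype.val h3
    obtain ⟨h5, h6⟩ := hdX a a.2
    exact hβ1 (eq_one_of_mul_eq hp.out h5 (by rw [h6]; exact hd) hβp h4)
  have hmod := Equiv.Perm.card_fixedPoints_modEq hfp
  rw [hfix, Fintype.card_coe, hX] at hmod
  exact hS ((Nat.modEq_zero_iff_dvd).1 hmod)

end normal

end Cfsg.Agent.H672
end

-- part: H672/Inv
section
/-!
# Existence of nontrivial linear characters fixed by a Sylow subgroup
-/

set_option autoImplicit false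
set_option linter.style.haveILetI false
set_option linter.unusedSectionVars false
open Cfsg

namespace Cfsg.Agent.H672

open Cfsg.Agent.Characters.Core Cfsg.Agent.Characters.Clifford
open scoped ComplexConjugate

universe u v w

variable {G : Type u} [Group G] [Finite G] (N : Subgroup G) [hN : N.Normal]

theorem index_commutator_eq_relIndex (N : Subgroup G) :
    (commutator N).index = ⁅N, N⁆.relIndex N := by
  rw [Subgroup.relIndex, ← Subgroup.map_subtype_commutator, Subgroup.subgroupOf,
    Subgroup.comap_map_eq_self_of_injective N.subtype_injective]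

/-- If `p` divides `|H : H'|` there is a linear character of order `p`. -/
theorem exists_lin_order {H : Type v} [Group H] [Finite H] {p : ℕ} [hp : Fact p.Prime]
    (h : p ∣ (commutator H).index) : ∃ l : H →* ℂˣ, l ≠ 1 ∧ ∀ x, l x ^ p = 1 := by
  classical
  have hA : p ∣ Nat.card (Abelianization H) := h
  haveI : NeZero (Monoid.exponent (Abelianization H)) :=
    ⟨Monoid.exponent_ne_zero_of_finite⟩
  obtain ⟨e⟩ := CommGroup.monoidHom_mulEquiv_of_hasEnoughRootsOfUnity (Abelianization H) ℂ
  obtain ⟨a, ha⟩ := exists_prime_orderOf_dvd_card' p hA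
  let m : Abelianization H →* ℂˣ := e.symm a
  have hm : orderOf m = p := by
    rw [← ha]; exact orderOf_injective e.symm.toMonoidHom e.symm.injective a
  refine ⟨m.comp Abelianization.of, ?_, ?_⟩
  · intro h1
    have : m = 1 := Abelianization.hom_ext _ _ h1
    rw [this, orderOf_one] at hm
    exact hp.out.one_lt.ne hm
  · intro x
    have h2 : m ^ p = 1 := by rw [← hm]; exact pow_orderOf_eq_one m
    exact DFunLike.congr_fun h2 (Abelianization.of x)

/-- If `p` divides `|N : N'|` there is a linear character of `N` of order `p` invariant under a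
given `p`-subgroup. -/
theorem exists_invariant {p : ℕ} [hp : Fact p.Prime] (P : Subgroup G) (hP : IsPGroup p P)
    (h : p ∣ ⁅N, N⁆.relIndex N) :
    ∃ l : N →* ℂˣ, l ≠ 1 ∧ (∀ x, l x ^ p = 1) ∧ P ≤ inertia N (lf l) := by
  classical
  rw [← index_commutator_eq_relIndex] at h
  let X : Subgroup (N →* ℂˣ) :=
    { carrier := {l | ∀ x, l x ^ p = 1}
      mul_mem' := by
        intro a b ha hb x
        rw [MonoidHom.mul_apply, mul_pow, ha x, hb x, one_mul]
      one_mem' := by intro x; simp
      inv_mem' := by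
        intro a ha x
        rw [MonoidHom.inv_apply, inv_pow, ha x, inv_one] }
  obtain ⟨l₀, hl₀, hl₀'⟩ := exists_lin_order (H := N) h
  haveI : Finite (N →* ℂˣ) := by
    haveI := finite_irr (G := N)
    exact Finite.of_injective (fun l : N →* ℂˣ => (⟨lf l, isIrr_lf l⟩ : IrrCharacter N))
      fun a b hab => lf_injective (congrArg Subtype.val hab)
  have hpX : p ∣ Nat.card X := by
    have h1 : orderOf (⟨l₀, hl₀'⟩ : X) = p := by
      refine orderOf_eq_prime ?_ ?_
      · apply Subtype.ext
        ext x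
        exact congrArg _ (hl₀' x)
      · intro h2
        exact hl₀ (congrArg Subtype.val h2)
    rw [← h1]
    exact orderOf_dvd_natCard _
  letI : MulAction P X :=
    { smul := fun g l => ⟨l.1.comp (MulAut.conjNormal (g : G)⁻¹ : MulAut N).toMonoidHom,
        fun x => l.2 _⟩
      one_smul := by
        intro l
        apply Subtype.ext
        ext x
        change ((l.1 (MulAut.conjNormal ((1 : P) : G)⁻¹ x) : ℂˣ) : ℂ) = l.1 x
        simp
      mul_smul := by
        intro a b l
        apply Subtype.ext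
        ext x
        change ((l.1 (MulAut.conjNormal ((a * b : P) : G)⁻¹ x) : ℂˣ) : ℂ) =
          (l.1 (MulAut.conjNormal (b : G)⁻¹ (MulAut.conjNormal (a : G)⁻¹ x)) : ℂˣ)
        simp [mul_inv_rev] }
  have hsmul : ∀ (g : P) (l : X) (x : N), (g • l).1 x = l.1 (MulAut.conjNormal (g : G)⁻¹ x) :=
    fun _ _ _ => rfl
  have hmod := hP.card_modEq_card_fixedPoints X
  have h1 : (1 : X) ∈ MulAction.fixedPoints P X := by
    intro g
    apply Subtype.ext
    ext x
    rw [hsmul]
    simp
  have hdvd : p ∣ Nat.card (MulAction.fixedPoints P X) :=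
    (Nat.modEq_zero_iff_dvd).1 (hmod.symm.trans ((Nat.modEq_zero_iff_dvd).2 hpX))
  have hpos : 0 < Nat.card (MulAction.fixedPoints P X) := by
    haveI : Nonempty (MulAction.fixedPoints P X) := ⟨⟨1, h1⟩⟩
    exact Nat.card_pos
  have hlt : 1 < Nat.card (MulAction.fixedPoints P X) :=
    lt_of_lt_of_le hp.out.one_lt (Nat.le_of_dvd hpos hdvd)
  haveI : Nontrivial (MulAction.fixedPoints P X) := Finite.one_lt_card_iff_nontrivial.1 hlt
  obtain ⟨⟨l, hl⟩, hne⟩ := exists_ne (⟨1, h1⟩ : MulAction.fixedPoints P X)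
  refine ⟨l.1, ?_, l.2, ?_⟩
  · intro h2
    apply hne
    apply Subtype.ext
    apply Subtype.ext
    exact h2
  · intro g hg
    rw [mem_inertia_lf]
    intro n
    have h2 := hl (⟨g, hg⟩⁻¹ : P)
    have h3 := hsmul (⟨g, hg⟩⁻¹ : P) l n
    rw [h2] at h3
    rw [h3]
    simp

end Cfsg.Agent.H672
end

-- part: H672/Cases
section
/-!
# The two cases of the proof of the theorem on the relative degree graph
-/

set_option autoImplicit false
set_option linter.style.haveILetI false
set_option linter.unusedSectionVars false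
open Cfsg

namespace Cfsg.Agent.H672

open Cfsg.Agent.Characters.Core Cfsg.Agent.Characters.Clifford
open scoped ComplexConjugate

universe u v w

section pre
variable {H : Type v} [Group H] [Finite H]

/-- a nontrivial linear character has a nontrivial power of prime order -/
theorem exists_pow_prime (μ : H →* ℂˣ) (hμ : μ ≠ 1) :
    ∃ (r : ℕ) (j : ℕ), r.Prime ∧ (∃ x, μ x ^ j ≠ 1) ∧ ∀ x, μ x ^ (j * r) = 1 := by
  have hfin : IsOfFinOrder μ := by
    rw [isOfFinOrder_iff_pow_eq_one]
    refine ⟨Nat.card H, Nat.card_pos, ?_⟩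
    ext x
    rw [MonoidHom.pow_apply, ← map_pow, pow_card_eq_one', map_one, MonoidHom.one_apply]
  have h1 : orderOf μ ≠ 1 := fun h => hμ (orderOf_eq_one_iff.1 h)
  obtain ⟨j, hj⟩ := Nat.minFac_dvd (orderOf μ)
  have hr := Nat.minFac_prime h1
  have hpos := hfin.orderOf_pos
  have hj0 : 0 < j := by
    rcases Nat.eq_zero_or_pos j with h | h
    · rw [h, mul_zero] at hj; omega
    · exact h
  refine ⟨(orderOf μ).minFac, j, hr, ?_, ?_⟩
  · by_contra hcon
    push Not at hcon
    have h2 : orderOf μ ∣ j := orderOf_dvd_of_pow_eq_one (by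
      ext x
      exact congrArg _ (hcon x))
    have h3 := Nat.le_of_dvd hj0 h2
    have h4 := hr.two_le
    nlinarith
  · intro x
    rw [mul_comm, ← hj]
    exact DFunLike.congr_fun (pow_orderOf_eq_one μ) x

theorem card_factor (p : ℕ) [hp : Fact p.Prime] :
    ∃ k n' : ℕ, ¬ p ∣ n' ∧ 0 < n' ∧ ∀ (l : H →* ℂˣ) (x : H), l x ^ (p ^ k * n') = 1 := by
  obtain ⟨k, n', h1, h2⟩ := Nat.exists_eq_pow_mul_and_not_dvd (n := Nat.card H)
    (Nat.card_pos).ne' p hp.out.ne_one
  refine ⟨k, n', h1, ?_, ?_⟩
  · rcases Nat.eq_zero_or_pos n' with h | h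
    · exact absurd (h ▸ dvd_zero p) h1
    · exact h
  · intro l x
    rw [← h2, ← map_pow, pow_card_eq_one', map_one]

theorem units_eq_one_of_pow {a : ℂˣ} {A B : ℕ} (h : Nat.Coprime A B) (h1 : a ^ A = 1)
    (h2 : a ^ B = 1) : a = 1 := by
  have := pow_gcd_eq_one.2 ⟨h1, h2⟩
  rwa [Nat.Coprime.gcd_eq_one h, pow_one] at this

/-- a subgroup of index prime to `r` contains a Sylow `r`-subgroup -/
theorem exists_sylow_le {r : ℕ} [hr : Fact r.Prime] (T : Subgroup H) (hT : ¬ r ∣ T.index) :
    ∃ R : Sylow r H, (R : Subgroup H) ≤ T := by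
  obtain ⟨Q⟩ : Nonempty (Sylow r T) := inferInstance
  have h1 : IsPGroup r ((Q : Subgroup T).map T.subtype) := Q.isPGroup'.map _
  have h2 : ¬ r ∣ ((Q : Subgroup T).map T.subtype).index := by
    rw [Subgroup.index_map_subtype]
    intro h
    rcases (Nat.Prime.dvd_mul hr.out).1 h with h | h
    · exact Q.not_dvd_index h
    · exact hT h
  exact ⟨h1.toSylow h2, Subgroup.map_subtype_le _⟩

end pre

variable {G : Type u} [Group G] [Finite G] (N : Subgroup G) [hN : N.Normal]

theorem inertia_mul_le {l μ : N →* ℂˣ} {A B : ℕ} (h : Nat.Coprime A B) (hl : ∀ x, l x ^ A = 1)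
    (hμ : ∀ x, μ x ^ B = 1) : inertia N (lf (l * μ)) ≤ inertia N (lf l) := by
  intro g hg
  rw [mem_inertia_lf] at hg ⊢
  intro n
  have h1 := hg n
  rw [MonoidHom.mul_apply, MonoidHom.mul_apply] at h1
  rw [← div_eq_one]
  refine units_eq_one_of_pow h ?_ ?_
  · rw [div_pow, hl, hl, div_one]
  · have h2 : l (MulAut.conjNormal g n) / l n = μ n / μ (MulAut.conjNormal g n) := by
      rw [div_eq_div_iff_mul_eq_mul, h1, mul_comm]
    rw [h2, div_pow, hμ, hμ, div_one]

theorem inertia_pow (l : N →* ℂˣ) (j : ℕ) : inertia N (lf l) ≤ inertia N (lf (l ^ j)) :=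
  inertia_lf_pow N l j

variable {N}

/-- a `G`-invariant linear character of `N ≤ G'` which extends to `G` is trivial -/
theorem eq_one_of_extends_top (hNG : N ≤ commutator G) {l : N →* ℂˣ} (m : G →* ℂˣ)
    (hm : ∀ n : N, m n = l n) : l = 1 := by
  ext n
  have h1 : (n : G) ∈ m.ker := Abelianization.commutator_subset_ker m (hNG n.2)
  rw [← hm n, MonoidHom.mem_ker.1 h1, MonoidHom.one_apply]

/-- If `l ≠ 1` has `p`-power order and extends to `N P` then its inertia group is proper. -/
theorem inertia_ne_top (hNG : N ≤ commutator G) {p k : ℕ} [hp : Fact p.Prime] (P : Sylow p G)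
    {l : N →* ℂˣ} (hl1 : l ≠ 1) (hl : ∀ n, l n ^ p ^ k = 1)
    (ν : (N ⊔ (P : Subgroup G) : Subgroup G) →* ℂˣ) (hν : ∀ n : N, ν (inclK N P n) = l n) :
    inertia N (lf l) ≠ ⊤ := by
  intro htop
  obtain ⟨m, hm⟩ := lin_extends_to N P (N ⊔ (P : Subgroup G)) ⊤ le_sup_left le_sup_right le_top l hl
    htop.ge ν hν
  refine hl1 (eq_one_of_extends_top hNG (m.comp Subgroup.topEquiv.symm.toMonoidHom) fun n => ?_)
  exact hm n

/-- the degree of a character over `ϕ` is divisible by `r` if a power of `ϕ` is a nontrivial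
`G`-invariant character of `r`-power order. -/
theorem prime_dvd_of_over (hNG : N ≤ commutator G) {r k : ℕ} [hr : Fact r.Prime] {ϕ : N →* ℂˣ}
    {j : ℕ} (h1 : ∃ x, ϕ x ^ j ≠ 1) (h2 : ∀ x, ϕ x ^ (j * r ^ k) = 1)
    (h3 : inertia N (lf (ϕ ^ j)) = ⊤) {ψ : G → ℂ} (hψ : IsIrrCharacter G ψ)
    (ho : Over N.subtype ψ (lf ϕ)) : r ∣ charDegree ψ := by
  classical
  by_contra hd
  have h4 := index_mul_charDegree_dvd N hψ (isIrr_lf ϕ) ho
  have h5 : ¬ r ∣ (inertia N (lf ϕ)).index := fun h => hd ((dvd_mul_of_dvd_left h _).trans h4)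
  obtain ⟨R, hR⟩ := exists_sylow_le (r := r) (inertia N (lf ϕ)) h5
  obtain ⟨ξ, hξ, he⟩ := extends_of_invariant N R (isIrr_lf ϕ) hR hψ ho hd
  have hξ1 : charDegree ξ = 1 := by
    rw [← charDegree_comp_one (inclK N (R : Subgroup G)), he, charDegree_lf]
  obtain ⟨ν, rfl⟩ := exists_hom_of_degree_one hξ hξ1
  refine inertia_ne_top hNG R (l := ϕ ^ j) (k := k) ?_ ?_ (ν ^ j) ?_ h3
  · rintro h6
    obtain ⟨x, hx⟩ := h1
    exact hx (DFunLike.congr_fun h6 x)
  · intro n
    rw [MonoidHom.pow_apply, ← pow_mul, h2]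
  · intro n
    rw [MonoidHom.pow_apply, MonoidHom.pow_apply]
    congr 1
    exact Units.ext (congrFun he n)

end Cfsg.Agent.H672
end
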