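import Mathlib
import Cfsg.Agent.H672.Cases
set_option linter.all false

/-!
# The theorem on the relative degree graph
-/

set_option autoImplicit false
set_option linter.style.haveILetI false
set_option linter.unusedSectionVars false
open Cfsg

namespace Cfsg.Agent.H672

open Cfsg.Agent.Characters.Core Cfsg.Agent.Characters.Clifford
open scoped ComplexConjugate

universe u v w

variable {G : Type u} [Group G] [Finite G] {N : Subgroup G} [hN : N.Normal]

theorem index_dvd_of_over {χ : G → ℂ} (hχ : IsIrrCharacter G χ) {θ : N → ℂ}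
    (hθ : IsIrrCharacter N θ) (h : Over N.subtype χ θ) : (inertia N θ).index ∣ charDegree χ :=
  (dvd_mul_right _ _).trans (index_mul_charDegree_dvd N hχ hθ h)

/-- common factor of the degrees over `ϕ` and over `l ϕ` or `l ϕ^i`. -/
theorem not_coprime_of_over (hNG : N ≤ commutator G) {p a n' : ℕ} [hp : Fact p.Prime]
    {l ϕ : N →* ℂˣ} (hl : ∀ x, l x ^ p ^ a = 1) {i : ℕ} (hn' : ¬ p ∣ n')
    (hϕ : ∀ x, ϕ x ^ (i * n') = 1) (hne : ∃ x, ϕ x ^ i ≠ 1)
    {χ : G → ℂ} (hχ : IsIrrCharacter G χ) (hχo : Over N.subtype χ (lf ϕ))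
    {ψ : G → ℂ} (hψ : IsIrrCharacter G ψ) (hψo : Over N.subtype ψ (lf (l * ϕ ^ i))) :
    ¬ Nat.Coprime (charDegree χ) (charDegree ψ) := by
  have hcop : Nat.Coprime (p ^ a) n' := Nat.Coprime.pow_left _ ((Nat.Prime.coprime_iff_not_dvd hp.out).2 hn')
  have hμ : ∀ x, (ϕ ^ i) x ^ n' = 1 := by
    intro x; rw [MonoidHom.pow_apply, ← pow_mul]; exact hϕ x
  have h1 : inertia N (lf (l * ϕ ^ i)) ≤ inertia N (lf (ϕ ^ i)) := by
    rw [mul_comm l]
    exact inertia_mul_le N hcop.symm hμ hl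
  have h2 : (inertia N (lf (ϕ ^ i))).index ∣ charDegree ψ :=
    (Subgroup.index_dvd_of_le h1).trans (index_dvd_of_over hψ (isIrr_lf _) hψo)
  have h3 : (inertia N (lf (ϕ ^ i))).index ∣ charDegree χ :=
    (Subgroup.index_dvd_of_le (inertia_pow N ϕ i)).trans (index_dvd_of_over hχ (isIrr_lf _) hχo)
  intro hc
  have h4 : (inertia N (lf (ϕ ^ i))).index = 1 := Nat.eq_one_of_dvd_coprimes hc h3 h2
  have h5 : inertia N (lf (ϕ ^ i)) = ⊤ := Subgroup.index_eq_one.1 h4
  have hne1 : ϕ ^ i ≠ 1 := by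
    rintro h6
    obtain ⟨x, hx⟩ := hne
    exact hx (DFunLike.congr_fun h6 x)
  obtain ⟨r, j, hr, hj1, hj2⟩ := exists_pow_prime (ϕ ^ i) hne1
  haveI : Fact r.Prime := ⟨hr⟩
  obtain ⟨x, hx⟩ := hj1
  rw [MonoidHom.pow_apply, ← pow_mul] at hx
  have hrp0 : r ≠ p := by
    rintro rfl
    apply hx
    refine units_eq_one_of_pow (A := r) (B := n')
      ((Nat.Prime.coprime_iff_not_dvd hr).2 hn') ?_ ?_
    · have := hj2 x
      rw [MonoidHom.pow_apply, ← pow_mul] at this
      rw [← pow_mul, mul_assoc]; exact this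
    · rw [← pow_mul, mul_right_comm, pow_mul, hϕ, one_pow]
  have hrn : Nat.Coprime r (p ^ a) := Nat.Coprime.pow_right _ ((Nat.coprime_primes hr hp.out).2 hrp0)
  have hrp : ϕ x ^ (i * j * p ^ a) ≠ 1 := by
    intro h6
    apply hx
    refine units_eq_one_of_pow (A := r) (B := p ^ a) hrn ?_ ?_
    · have := hj2 x
      rw [MonoidHom.pow_apply, ← pow_mul] at this
      rw [← pow_mul, mul_assoc]; exact this
    · rw [← pow_mul]; exact h6
  have hlx : ∀ (y : N) (c : ℕ), (l * ϕ ^ i) y ^ (j * p ^ a * c) = ϕ y ^ (i * j * p ^ a * c) := by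
    intro y c
    rw [MonoidHom.mul_apply, MonoidHom.pow_apply, mul_pow, ← pow_mul]
    have h7 : l y ^ (j * p ^ a * c) = 1 := by
      rw [show j * p ^ a * c = p ^ a * (j * c) by ring, pow_mul, hl, one_pow]
    rw [h7, one_mul]
    congr 1
    ring
  have hinv : inertia N (lf ((ϕ ^ i) ^ (j * p ^ a))) = ⊤ := by
    refine top_le_iff.1 (h5.symm.le.trans (inertia_pow N (ϕ ^ i) (j * p ^ a)))
  have hd1 : r ∣ charDegree χ := by
    refine prime_dvd_of_over hNG (k := 1) (j := i * j * p ^ a) ⟨x, hrp⟩ ?_ ?_ hχ hχo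
    · intro y
      have := hj2 y
      rw [MonoidHom.pow_apply, ← pow_mul] at this
      rw [pow_one, show i * j * p ^ a * r = i * (j * r) * p ^ a by ring, pow_mul, this, one_pow]
    · rw [← hinv]
      congr 2
      ext y
      rw [MonoidHom.pow_apply, MonoidHom.pow_apply, MonoidHom.pow_apply, ← pow_mul, mul_assoc]
  have hd2 : r ∣ charDegree ψ := by
    refine prime_dvd_of_over hNG (k := 1) (j := j * p ^ a) ⟨x, ?_⟩ ?_ ?_ hψ hψo
    · have := hlx x 1
      rw [mul_one, mul_one] at this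
      rw [this]; exact hrp
    · intro y
      rw [hlx, pow_one]
      have := hj2 y
      rw [MonoidHom.pow_apply, ← pow_mul] at this
      rw [show i * j * p ^ a * r = i * (j * r) * p ^ a by ring, pow_mul, this, one_pow]
    · rw [← hinv]
      congr 2
      ext y
      have := hlx y 1
      rw [mul_one, mul_one] at this
      rw [MonoidHom.pow_apply, this, MonoidHom.pow_apply, MonoidHom.pow_apply, ← pow_mul, mul_assoc]
  exact hr.one_lt.ne' (Nat.eq_one_of_dvd_coprimes hc hd1 hd2)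

theorem le_inertia_of_extends {Q : Subgroup G} {θ : N → ℂ} {ξ : (N ⊔ Q : Subgroup G) → ℂ}
    (hξ : IsClassFunction _ ξ) (he : ξ ∘ inclK N Q = θ) : N ⊔ Q ≤ inertia N θ := by
  intro g hg
  rw [mem_inertia_iff]
  intro n
  rw [← he]
  exact hξ (inclK N Q n) ⟨g, hg⟩

theorem one_ne_of_charDegree {θ : N → ℂ} (h : charDegree θ ≠ 1) : θ ≠ 1 := by
  rintro rfl
  apply h
  exact charDegree_of_eq (by simp)

theorem lf_one : lf (1 : N →* ℂˣ) = 1 := by
  funext n; simp [lf]

theorem lf_ne_one {l : N →* ℂˣ} (h : l ≠ 1) : lf l ≠ 1 := by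
  rw [← lf_one]
  exact fun h' => h (lf_injective h')

/-- **Case I**: some nontrivial linear character of `p`-power order extends to `N P`.  Then all the
degrees prime to `p` are connected to `|G : T|`. -/
theorem caseI (hNG : N ≤ commutator G) {p k : ℕ} [hp : Fact p.Prime] (P : Sylow p G)
    {l : N →* ℂˣ} (hl1 : l ≠ 1) (hl : ∀ n, l n ^ p ^ k = 1)
    (ν : (N ⊔ (P : Subgroup G) : Subgroup G) →* ℂˣ) (hν : ∀ n : N, ν (inclK N P n) = l n) :
    (inertia N (lf l)).index ∈ relCharDegrees N ∧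
      ∀ a ∈ relCharDegrees N, ¬ p ∣ a → Conn N a (inertia N (lf l)).index := by
  have hKT : N ⊔ (P : Subgroup G) ≤ inertia N (lf l) := by
    refine le_inertia_of_extends (isIrr_isClassFunction (isIrr_lf ν)) ?_
    funext n
    exact congrArg _ (hν n)
  obtain ⟨m, hm⟩ := lin_extends_to N P (N ⊔ (P : Subgroup G)) _ le_sup_left le_sup_right hKT l hl
    le_rfl ν hν
  have hT := inertia_ne_top hNG P hl1 hl ν hν
  obtain ⟨χ₀, hχ₀, ho₀, hd₀⟩ := exists_irr_index N l _ rfl (le_sup_left.trans hKT) m hm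
  have ht : (inertia N (lf l)).index ∈ relCharDegrees N := by
    rw [← hd₀]
    exact mem_relCharDegrees_of_over N hχ₀ (isIrr_lf l) ho₀ (lf_ne_one hl1)
  have hpt : ¬ p ∣ (inertia N (lf l)).index := fun h =>
    P.not_dvd_index (h.trans (Subgroup.index_dvd_of_le (le_sup_right.trans hKT)))
  refine ⟨ht, ?_⟩
  intro a ha hpa
  by_cases hc : Nat.Coprime a (inertia N (lf l)).index
  swap
  · exact Conn.of_not_coprime ha ht hc
  obtain ⟨⟨χ, hχ⟩, hk, rfl⟩ := ha
  dsimp only at hk hpa hc ⊢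
  have ha : charDegree χ ∈ relCharDegrees N := ⟨⟨χ, hχ⟩, hk, rfl⟩
  obtain ⟨θ, hθ, ho⟩ := exists_under (f := N.subtype) hχ
  have hθ1 := ne_one_of_over N hχ hk hθ ho
  have hcl := index_mul_charDegree_dvd N hχ hθ ho
  have hS : (inertia N θ).index ∣ charDegree χ := (dvd_mul_right _ _).trans hcl
  have hθd : charDegree θ ∣ charDegree χ := (dvd_mul_left _ _).trans hcl
  have hpS : ¬ p ∣ (inertia N θ).index := fun h => hpa (h.trans hS)
  have hpθ : ¬ p ∣ charDegree θ := fun h => hpa (h.trans hθd)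
  have hcS : Nat.Coprime (inertia N θ).index (inertia N (lf l)).index := hc.coprime_dvd_left hS
  -- the character `l θ`
  have hlθ := isIrr_mul_lf l hθ
  obtain ⟨ψ, hψ, hψo⟩ := exists_over N _ hlθ
  have hψU := index_dvd_of_over hψ hlθ hψo
  have hnot : ¬ Nat.Coprime (inertia N (fun n => (l n : ℂ) * θ n)).index
      (inertia N (lf l)).index := fun h => hT (inertia_eq_top N hθ hpθ hpS l hl hcS h)
  have hnot' : ¬ Nat.Coprime (charDegree ψ) (inertia N (lf l)).index := fun h =>
    hnot (h.coprime_dvd_left hψU)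
  have hψm : charDegree ψ ∈ relCharDegrees N := by
    refine mem_relCharDegrees_of_over N hψ hlθ hψo ?_
    intro h
    apply hnot
    have : inertia N (fun n => (l n : ℂ) * θ n) = ⊤ := by
      rw [eq_top_iff]
      intro g _
      rw [mem_inertia, h]
      rfl
    rw [this, Subgroup.index_top]
    exact Nat.coprime_one_left _
  have hψt : Conn N (charDegree ψ) (inertia N (lf l)).index := Conn.of_not_coprime hψm ht hnot'
  by_cases hθ2 : charDegree θ = 1
  swap
  · -- `θ` nonlinear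
    refine Conn.trans (Conn.of_dvd ha hψm (r := charDegree θ) ?_ hθd ?_) hψt
    · have := charDegree_pos hθ; omega
    · have h1 := index_mul_charDegree_dvd N hψ hlθ hψo
      rw [charDegree_mul_lf] at h1
      exact (dvd_mul_left _ _).trans h1
  · obtain ⟨ϕ, rfl⟩ := exists_hom_of_degree_one hθ hθ2
    obtain ⟨b, n', hn', hn'0, hpow⟩ := card_factor (H := N) p
    by_cases hμ : ∃ x, ϕ x ^ p ^ b ≠ 1
    · -- the `p'`-part is not trivial
      obtain ⟨ψ', hψ', hψo'⟩ := exists_over N _ (isIrr_lf (l * ϕ ^ p ^ b))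
      have hcop : Nat.Coprime (p ^ k) n' :=
        Nat.Coprime.pow_left _ ((Nat.Prime.coprime_iff_not_dvd hp.out).2 hn')
      have h1 : inertia N (lf (l * ϕ ^ p ^ b)) ≤ inertia N (lf l) := by
        refine inertia_mul_le N hcop hl ?_
        intro x
        rw [MonoidHom.pow_apply, ← pow_mul]
        exact hpow ϕ x
      have h2 : (inertia N (lf l)).index ∣ charDegree ψ' :=
        (Subgroup.index_dvd_of_le h1).trans (index_dvd_of_over hψ' (isIrr_lf _) hψo')
      have h3 : ¬ Nat.Coprime (charDegree χ) (charDegree ψ') :=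
        not_coprime_of_over hNG hl hn' (hpow ϕ) hμ hχ ho hψ' hψo'
      have ht1 : 1 < (inertia N (lf l)).index := by
        have h4 : (inertia N (lf l)).index ≠ 1 := fun h => hT (Subgroup.index_eq_one.1 h)
        have h5 : (inertia N (lf l)).index ≠ 0 := Subgroup.index_ne_zero_of_finite
        omega
      have hψm' : charDegree ψ' ∈ relCharDegrees N := by
        refine mem_relCharDegrees_of_over N hψ' (isIrr_lf _) hψo' (lf_ne_one ?_)
        intro h
        have h6 : inertia N (lf (1 : N →* ℂˣ)) ≤ inertia N (lf l) := h ▸ h1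
        apply hT
        rw [eq_top_iff]
        refine le_trans ?_ h6
        intro g _
        rw [mem_inertia_lf]
        intro n
        rfl
      exact Conn.trans (Conn.of_not_coprime ha hψm' h3) (Conn.of_dvd hψm' ht ht1 h2 dvd_rfl)
    · -- `ϕ` of `p`-power order
      push Not at hμ
      have hS1 : inertia N (lf ϕ) ≠ ⊤ := by
        intro htop
        apply hpa
        have hϕ1 : ∃ x, ϕ x ≠ 1 := by
          by_contra hcon
          push Not at hcon
          apply hθ1
          funext n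
          simp [lf, hcon]
        refine prime_dvd_of_over hNG (k := b) (j := 1) ?_ ?_ ?_ hχ ho
        · obtain ⟨x, hx⟩ := hϕ1
          exact ⟨x, by rwa [pow_one]⟩
        · intro x
          rw [one_mul]
          exact hμ x
        · rw [← htop]
          congr 2
          ext x
          rw [MonoidHom.pow_apply, pow_one]
      have e : (fun n : N => (ϕ n : ℂ) * lf l n) = fun n => (l n : ℂ) * lf ϕ n := by
        funext n
        rw [lf_apply, lf_apply, mul_comm]
      have hnot2 : ¬ Nat.Coprime (inertia N (fun n => (l n : ℂ) * lf ϕ n)).index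
          (inertia N (lf ϕ)).index := fun h => by
        refine hS1 (inertia_eq_top N (isIrr_lf l) ?_ hpt ϕ hμ hcS.symm ?_)
        · rw [charDegree_lf]; exact hp.out.one_lt.ne' ∘ Nat.dvd_one.1
        · rw [e]; exact h
      have h7 : ¬ Nat.Coprime (charDegree ψ) (charDegree χ) := fun h =>
        hnot2 ((h.coprime_dvd_left hψU).coprime_dvd_right hS)
      exact Conn.trans (Conn.of_not_coprime ha hψm (fun h => h7 h.symm)) hψt

/-- **Case II**: no nontrivial linear character of `p`-power order extends to `N P`.  Then every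
degree is connected to a degree divisible by `p`. -/
theorem caseII (hNG : N ≤ commutator G) {p : ℕ} [hp : Fact p.Prime] (P : Sylow p G)
    (hpm : p ∣ ⁅N, N⁆.relIndex N)
    (hno : ∀ (l : N →* ℂˣ) (k : ℕ), (∀ n, l n ^ p ^ k = 1) →
      ∀ ν : (N ⊔ (P : Subgroup G) : Subgroup G) →* ℂˣ, (∀ n : N, ν (inclK N P n) = l n) → l = 1) :
    ∀ a ∈ relCharDegrees N, ∃ b, p ∣ b ∧ Conn N a b := by
  intro a ha
  by_cases hpa : p ∣ a
  · exact ⟨a, hpa, Conn.refl ha⟩
  obtain ⟨⟨χ, hχ⟩, hk, rfl⟩ := ha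
  dsimp only at hk hpa ⊢
  have ha : charDegree χ ∈ relCharDegrees N := ⟨⟨χ, hχ⟩, hk, rfl⟩
  obtain ⟨θ, hθ, ho, ξ, hξ, hξθ⟩ := exists_extendible N P hχ hpa
  obtain ⟨l, hl1, hl, hPl⟩ := exists_invariant N (P : Subgroup G) P.isPGroup' hpm
  have hl' : ∀ n, l n ^ p ^ 1 = 1 := by intro n; rw [pow_one]; exact hl n
  have hθ1 := ne_one_of_over N hχ hk hθ ho
  have hKl : N ⊔ (P : Subgroup G) ≤ inertia N (lf l) :=
    sup_le (le_inertia (isIrr_isClassFunction (isIrr_lf l))) hPl
  have hKθ : N ⊔ (P : Subgroup G) ≤ inertia N θ :=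
    le_inertia_of_extends (isIrr_isClassFunction hξ) hξθ
  have hlθ := isIrr_mul_lf l hθ
  obtain ⟨ψ, hψ, hψo⟩ := exists_over N _ hlθ
  have hlθ1 : (fun n : N => (l n : ℂ) * θ n) ≠ 1 := by
    intro h
    have hd : charDegree θ = 1 := by
      rw [← charDegree_mul_lf l θ, h]
      exact charDegree_of_eq (by simp)
    have hdξ : charDegree ξ = 1 := by
      rw [← charDegree_comp_one (inclK N (P : Subgroup G)), hξθ, hd]
    obtain ⟨ν, rfl⟩ := exists_hom_of_degree_one hξ hdξ
    apply hl1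
    refine hno l 1 hl' ν⁻¹ ?_
    intro n
    have h1 := congrFun h n
    rw [← hξθ] at h1
    have h2 : l n * ν (inclK N P n) = 1 := by
      apply Units.ext
      rw [Units.val_mul]
      exact h1
    rw [MonoidHom.inv_apply]
    exact (eq_inv_of_mul_eq_one_left h2).symm
  have hψm : charDegree ψ ∈ relCharDegrees N :=
    mem_relCharDegrees_of_over N hψ hlθ hψo hlθ1
  have hpψ : p ∣ charDegree ψ := by
    by_contra hcon
    have hinv : (P : Subgroup G) ≤ inertia N (fun n => (l n : ℂ) * θ n) := fun g hg =>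
      (mem_inertia_mul N (hPl hg)).2 (hKθ (le_sup_right (a := N) hg))
    obtain ⟨ξ₂, hξ₂, hξ₂θ⟩ := extends_of_invariant N P hlθ hinv hψ hψo hcon
    obtain ⟨m, hm⟩ := lin_ext_of_two (inclK N (P : Subgroup G)) (inclK_injective N _)
      (inclK_range_normal N _) hξ hξ₂ hθ l (by
        intro k h h' e
        have h1 := (mem_inertia_lf N).1 (hKl k.2) h
        rw [← h1]
        have e' : h' = MulAut.conjNormal (k : G) h := by
          apply Subtype.ext
          rw [MulAut.conjNormal_apply]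
          exact congrArg Subtype.val e
        rw [e']) hξθ hξ₂θ
    exact hl1 (hno l 1 hl' m hm)
  refine ⟨charDegree ψ, hpψ, ?_⟩
  have hθχ : charDegree θ ∣ charDegree χ :=
    (dvd_mul_left _ _).trans (index_mul_charDegree_dvd N hχ hθ ho)
  by_cases hθ2 : charDegree θ = 1
  swap
  · refine Conn.of_dvd ha hψm (r := charDegree θ) ?_ hθχ ?_
    · have := charDegree_pos hθ; omega
    · have h1 := index_mul_charDegree_dvd N hψ hlθ hψo
      rw [charDegree_mul_lf] at h1
      exact (dvd_mul_left _ _).trans h1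
  · obtain ⟨ϕ, rfl⟩ := exists_hom_of_degree_one hθ hθ2
    have hdξ : charDegree ξ = 1 := by
      rw [← charDegree_comp_one (inclK N (P : Subgroup G)), hξθ, hθ2]
    obtain ⟨ν, rfl⟩ := exists_hom_of_degree_one hξ hdξ
    obtain ⟨b, n', hn', hn'0, hpow⟩ := card_factor (H := N) p
    have hϕn : ∀ x, ϕ x ^ (1 * n') = 1 := by
      have h1 : ϕ ^ n' = 1 := by
        refine hno (ϕ ^ n') b ?_ (ν ^ n') ?_
        · intro n
          rw [MonoidHom.pow_apply, ← pow_mul, mul_comm]
          exact hpow ϕ n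
        · intro n
          rw [MonoidHom.pow_apply, MonoidHom.pow_apply]
          congr 1
          exact Units.ext (congrFun hξθ n)
      intro x
      rw [one_mul]
      exact DFunLike.congr_fun h1 x
    refine Conn.of_not_coprime ha hψm ?_
    have e : (fun n : N => (l n : ℂ) * lf ϕ n) = lf (l * ϕ ^ 1) := by
      funext n
      rw [lf_apply, lf_apply, MonoidHom.mul_apply, MonoidHom.pow_apply, pow_one, Units.val_mul]
    refine not_coprime_of_over hNG hl' hn' hϕn ?_ hχ ho hψ (e ▸ hψo)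
    by_contra hcon
    push Not at hcon
    apply hθ1
    funext n
    have := hcon n
    rw [pow_one] at this
    simp [lf, this]

/-- two vertices in different components: exactly one of them is divisible by `p` -/
theorem xor_of_not_conn (hNG : N ≤ commutator G) {p : ℕ} [hp : Fact p.Prime]
    (hpm : p ∣ ⁅N, N⁆.relIndex N) {a b : ℕ} (ha : a ∈ relCharDegrees N) (hb : b ∈ relCharDegrees N)
    (hab : ¬ Conn N a b) :
    ((p ∣ a ∧ ¬ p ∣ b) ∨ (p ∣ b ∧ ¬ p ∣ a)) ∧
    ∃ l : N →* ℂˣ, l ≠ 1 ∧ (∃ k, ∀ n, l n ^ p ^ k = 1) ∧ (inertia N (lf l)) ≠ ⊤ ∧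
      (inertia N (lf l)).index ∈ relCharDegrees N ∧
      ∀ a ∈ relCharDegrees N, ¬ p ∣ a → Conn N a (inertia N (lf l)).index := by
  obtain ⟨P⟩ : Nonempty (Sylow p G) := inferInstance
  have h2 : ¬ (p ∣ a ∧ p ∣ b) := fun h => hab (Conn.of_dvd ha hb hp.out.one_lt h.1 h.2)
  by_cases hno : ∀ (l : N →* ℂˣ) (k : ℕ), (∀ n, l n ^ p ^ k = 1) →
      ∀ ν : (N ⊔ (P : Subgroup G) : Subgroup G) →* ℂˣ, (∀ n : N, ν (inclK N P n) = l n) → l = 1
  · exfalso
    obtain ⟨a', h3, h4⟩ := caseII hNG P hpm hno a ha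
    obtain ⟨b', h5, h6⟩ := caseII hNG P hpm hno b hb
    obtain ⟨_, ha', _⟩ := id h4
    obtain ⟨_, hb', _⟩ := id h6
    exact hab ((h4.trans (Conn.of_dvd ha' hb' hp.out.one_lt h3 h5)).trans h6.symm)
  · push Not at hno
    obtain ⟨l, k, hl, ν, hν, hl1⟩ := hno
    obtain ⟨h3, h4⟩ := caseI hNG P hl1 hl ν hν
    refine ⟨?_, l, hl1, ⟨k, hl⟩, inertia_ne_top hNG P hl1 hl ν hν, h3, h4⟩
    by_cases hpa : p ∣ a
    · exact Or.inl ⟨hpa, fun h => h2 ⟨hpa, h⟩⟩
    · refine Or.inr ⟨?_, hpa⟩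
      by_contra hpb
      exact hab ((h4 a ha hpa).trans (h4 b hb hpb).symm)

theorem not_xor_two (hNG : N ≤ commutator G) {p q : ℕ} [hp : Fact p.Prime] [hq : Fact q.Prime]
    (hpm : p ∣ ⁅N, N⁆.relIndex N) (hqm : q ∣ ⁅N, N⁆.relIndex N) {a b : ℕ}
    (ha : a ∈ relCharDegrees N) (hb : b ∈ relCharDegrees N)
    (hab : ¬ Conn N a b) (hpa : p ∣ a) (hqb : q ∣ b) : False := by
  have hpb : ¬ p ∣ b := fun h => hab (Conn.of_dvd ha hb hp.out.one_lt hpa h)
  have hqa : ¬ q ∣ a := fun h => hab (Conn.of_dvd ha hb hq.out.one_lt h hqb)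
  have hpq : p ≠ q := by rintro rfl; exact hpb hqb
  obtain ⟨-, l, hl1, ⟨k, hl⟩, hlt, hlm, hlc⟩ := xor_of_not_conn hNG hpm ha hb hab
  obtain ⟨-, m, hm1, ⟨j, hm⟩, hmt, hmm, hmc⟩ := xor_of_not_conn hNG hqm ha hb hab
  obtain ⟨ψ, hψ, hψo⟩ := exists_over N _ (isIrr_lf (l * m))
  have hcop : Nat.Coprime (p ^ k) (q ^ j) :=
    Nat.Coprime.pow _ _ ((Nat.coprime_primes hp.out hq.out).2 hpq)
  have h1 : inertia N (lf (l * m)) ≤ inertia N (lf l) := inertia_mul_le N hcop hl hm
  have hcomm : l * m = m * l := by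
    ext x
    rw [MonoidHom.mul_apply, MonoidHom.mul_apply, mul_comm]
  have h2 : inertia N (lf (l * m)) ≤ inertia N (lf m) := by
    rw [hcomm]; exact inertia_mul_le N hcop.symm hm hl
  have h3 := (Subgroup.index_dvd_of_le h1).trans (index_dvd_of_over hψ (isIrr_lf _) hψo)
  have h4 := (Subgroup.index_dvd_of_le h2).trans (index_dvd_of_over hψ (isIrr_lf _) hψo)
  have hψm : charDegree ψ ∈ relCharDegrees N := by
    refine mem_relCharDegrees_of_over N hψ (isIrr_lf _) hψo (lf_ne_one ?_)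
    intro h
    apply hlt
    rw [eq_top_iff]
    refine le_trans ?_ h1
    intro g _
    rw [mem_inertia_lf, h]
    intro n
    rfl
  have h5 : ∀ T : Subgroup G, T ≠ ⊤ → 1 < T.index := by
    intro T hT
    have h6 : T.index ≠ 1 := fun h => hT (Subgroup.index_eq_one.1 h)
    have h7 : T.index ≠ 0 := Subgroup.index_ne_zero_of_finite
    omega
  have c1 := Conn.of_dvd hψm hlm (h5 _ hlt) h3 dvd_rfl
  have c2 := Conn.of_dvd hψm hmm (h5 _ hmt) h4 dvd_rfl
  exact hab ((((hmc a ha hqa).trans c2.symm).trans c1).trans (hlc b hb hpb).symm)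

theorem main_xor (hN : ⁅N, N⁆ < N) (hNG : N ≤ commutator G) {a b : ℕ}
    (ha : a ∈ relCharDegrees N) (hb : b ∈ relCharDegrees N) (hab : ¬ Conn N a b) :
    (Nat.Coprime a (⁅N, N⁆.relIndex N) ∧
      ∀ r : ℕ, r.Prime → r ∣ ⁅N, N⁆.relIndex N → r ∣ b) ∨
    (Nat.Coprime b (⁅N, N⁆.relIndex N) ∧
      ∀ r : ℕ, r.Prime → r ∣ ⁅N, N⁆.relIndex N → r ∣ a) := by
  have hm1 : ⁅N, N⁆.relIndex N ≠ 1 := fun h => hN.not_ge (Subgroup.relIndex_eq_one.1 h)
  obtain ⟨p, hp, hpm⟩ := Nat.exists_prime_and_dvd hm1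
  haveI : Fact p.Prime := ⟨hp⟩
  have key : ∀ {a b : ℕ}, a ∈ relCharDegrees N → b ∈ relCharDegrees N → ¬ Conn N a b → p ∣ b →
      (Nat.Coprime a (⁅N, N⁆.relIndex N) ∧
      ∀ r : ℕ, r.Prime → r ∣ ⁅N, N⁆.relIndex N → r ∣ b) := by
    intro a b ha hb hab hpb
    have h1 : ∀ r : ℕ, r.Prime → r ∣ ⁅N, N⁆.relIndex N → ¬ r ∣ a := by
      intro r hr hrm hra
      haveI : Fact r.Prime := ⟨hr⟩
      exact not_xor_two hNG hrm hpm ha hb hab hra hpb
    constructor
    · by_contra h
      obtain ⟨r, hr, h2, h3⟩ := Nat.Prime.not_coprime_iff_dvd.1 h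
      exact h1 r hr h3 h2
    · intro r hr hrm
      haveI : Fact r.Prime := ⟨hr⟩
      rcases (xor_of_not_conn hNG hrm ha hb hab).1 with h | h
      · exact absurd h.1 (h1 r hr hrm)
      · exact h.1
  rcases (xor_of_not_conn hNG hpm ha hb hab).1 with h | h
  · exact Or.inr (key hb ha (fun h' => hab h'.symm) h.1)
  · exact Or.inl (key ha hb hab h.1)

theorem card_components_le (hN : ⁅N, N⁆ < N) (hNG : N ≤ commutator G) :
    Nat.card (commonDivisorGraph.induce (relCharDegrees N)).ConnectedComponent ≤ 2 := by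
  classical
  have hm1 : ⁅N, N⁆.relIndex N ≠ 1 := fun h => hN.not_ge (Subgroup.relIndex_eq_one.1 h)
  obtain ⟨p, hp, hpm⟩ := Nat.exists_prime_and_dvd hm1
  haveI : Fact p.Prime := ⟨hp⟩
  let f : (commonDivisorGraph.induce (relCharDegrees N)).ConnectedComponent → Bool :=
    fun C => decide (p ∣ (Quot.out C : relCharDegrees N).1)
  have hf : Function.Injective f := by
    intro C D hCD
    by_contra hne
    have h1 : ¬ Conn N (Quot.out C : relCharDegrees N).1 (Quot.out D : relCharDegrees N).1 := by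
      rintro ⟨h2, h3, h4⟩
      apply hne
      rw [← Quot.out_eq C, ← Quot.out_eq D]
      exact SimpleGraph.ConnectedComponent.eq.2 h4
    have h2 := (xor_of_not_conn hNG hpm (Quot.out C : relCharDegrees N).2
      (Quot.out D : relCharDegrees N).2 h1).1
    have h3 : (p ∣ (Quot.out C : relCharDegrees N).1) ↔ (p ∣ (Quot.out D : relCharDegrees N).1) := by
      simpa [f] using hCD
    tauto
  have := Nat.card_le_card_of_injective f hf
  simpa using this

end Cfsg.Agent.H672
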